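import Mathlib

/-! Morphisms which are covering for the fpqc topology, and descent along them. -/

set_option autoImplicit false
universe u
open CategoryTheory CategoryTheory.Limits AlgebraicGeometry MonoidalCategory CartesianMonoidalCategory

namespace Groth.Agent.FppfEpi

/-- The fpqc sieve condition for a morphism. -/
def IsCov {X Y : Scheme.{u}} (f : X ⟶ Y) : Prop :=
  Sieve.generate (Presieve.singleton f) ∈ Scheme.fpqcTopology Y

theorem singleton_mem_fpqc {Z Y : Scheme.{u}} (q : Z ⟶ Y) [Surjective q] [Flat q]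
    (h : ∀ V : Y.Opens, IsAffineOpen V → ∃ W : Z.Opens, IsCompact (W : Set Z) ∧
      q.base '' (W : Set Z) = (V : Set Y)) :
    Presieve.singleton q ∈ Scheme.fpqcPrecoverage Y := by
  refine ⟨?_, ?_⟩
  · rw [Scheme.qcPrecoverage, PreZeroHypercoverFamily.mem_precoverage_iff]
    refine ⟨(q.cover (P := ⊤) trivial).toPreZeroHypercover, ?_, by simp⟩
    simp only [Scheme.qcCoverFamily_property, Scheme.quasiCompactCover_iff]
    refine ⟨fun {U} hU => ?_⟩
    obtain ⟨W, hW, hWU⟩ := h U hU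
    exact ⟨{PUnit.unit}, Set.finite_singleton _, fun i _ => W, fun i _ => hW,
      (Set.iUnion₂_congr fun i _ => rfl).trans ((Set.biUnion_singleton _ _).trans hWU)⟩
  · exact (Scheme.singleton_mem_precoverage_iff (P := @Flat) q).mpr ⟨‹Surjective q›.surj, ‹Flat q›⟩

theorem isCov_of_factor {X Y Z : Scheme.{u}} (p : X ⟶ Y) (q : Z ⟶ Y) (r : Z ⟶ X) (hr : r ≫ p = q)
    [Surjective q] [Flat q]
    (h : ∀ V : Y.Opens, IsAffineOpen V → ∃ W : Z.Opens, IsCompact (W : Set Z) ∧
      q.base '' (W : Set Z) = (V : Set Y)) : IsCov p := by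
  refine Scheme.fpqcTopology.superset_covering ?_
    (Precoverage.generate_mem_toGrothendieck (singleton_mem_fpqc q h))
  rintro W g ⟨W', a, b, ⟨⟩, rfl⟩
  exact ⟨X, a ≫ r, p, ⟨⟩, by rw [Category.assoc, hr]⟩

theorem IsCov.effectiveEpi {X Y : Scheme.{u}} {f : X ⟶ Y} (hf : IsCov f) : EffectiveEpi f := by
  have h : ∀ Z : Scheme.{u},
      Presieve.IsSheafFor (yoneda.obj Z) (Sieve.generate (Presieve.singleton f)).arrows :=
    fun Z => GrothendieckTopology.Subcanonical.isSheaf_of_isRepresentable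
      (J := Scheme.fpqcTopology) (yoneda.obj Z) _ hf
  exact (Sieve.effectiveEpimorphic_singleton f).mp
    ((Sieve.forallYonedaIsSheaf_iff_colimit (Sieve.generate (Presieve.singleton f))).mp h)

variable {S : Scheme.{u}}

theorem IsCov.tensorHom {A A' B B' : Over S} {f : A ⟶ A'} {g : B ⟶ B'} (hf : IsCov f.left)
    (hg : IsCov g.left) : IsCov (f ⊗ₘ g).left := by
  refine Scheme.fpqcTopology.superset_covering ?_ (Scheme.fpqcTopology.intersection_covering
    (Scheme.fpqcTopology.pullback_stable (fst A' B').left hf)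
    (Scheme.fpqcTopology.pullback_stable (snd A' B').left hg))
  rintro W w ⟨⟨_, a, _, ⟨⟩, ha⟩, ⟨_, b, _, ⟨⟩, hb⟩⟩
  have haw : a ≫ A.hom = w ≫ (A' ⊗ B').hom := by
    rw [← Over.w f, ← Category.assoc, ha, Category.assoc, Over.w (fst A' B')]
  have hbw : b ≫ B.hom = w ≫ (A' ⊗ B').hom := by
    rw [← Over.w g, ← Category.assoc, hb, Category.assoc, Over.w (snd A' B')]
  let a' : Over.mk (w ≫ (A' ⊗ B').hom) ⟶ A := Over.homMk a haw
  let b' : Over.mk (w ≫ (A' ⊗ B').hom) ⟶ B := Over.homMk b hbw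
  let w' : Over.mk (w ≫ (A' ⊗ B').hom) ⟶ A' ⊗ B' := Over.homMk w rfl
  have e : lift a' b' ≫ (f ⊗ₘ g) = w' := by
    rw [lift_map]
    apply CartesianMonoidalCategory.hom_ext
    · rw [lift_fst]; exact Over.OverMorphism.ext ha
    · rw [lift_snd]; exact Over.OverMorphism.ext hb
  exact ⟨_, (lift a' b').left, _, ⟨⟩, congrArg CommaMorphism.left e⟩

theorem IsCov.exists_desc_over {X Y Z : Over S} {f : X ⟶ Y} (hf : IsCov f.left) (g : X ⟶ Z)
    (h : ∀ (T : Over S) (a b : T ⟶ X), a ≫ f = b ≫ f → a ≫ g = b ≫ g) :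
    ∃ g' : Y ⟶ Z, f ≫ g' = g := by
  haveI := hf.effectiveEpi
  have hh : ∀ {W : Scheme.{u}} (a b : W ⟶ X.left), a ≫ f.left = b ≫ f.left →
      a ≫ g.left = b ≫ g.left := by
    intro W a b hab
    have hb : b ≫ X.hom = a ≫ X.hom := by
      rw [← Over.w f, ← Category.assoc, ← hab, Category.assoc]
    exact congrArg CommaMorphism.left (h (Over.mk (a ≫ X.hom)) (Over.homMk a rfl) (Over.homMk b hb)
      (Over.OverMorphism.ext hab))
  refine ⟨Over.homMk (EffectiveEpi.desc f.left g.left hh) ?_,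
    Over.OverMorphism.ext (EffectiveEpi.fac f.left g.left hh)⟩
  rw [← cancel_epi f.left, ← Category.assoc, EffectiveEpi.fac, Over.w g, Over.w f]

theorem IsCov.epi_over {X Y : Over S} {f : X ⟶ Y} (hf : IsCov f.left) : Epi f := by
  haveI := hf.effectiveEpi
  exact Over.epi_of_epi_left f

end Groth.Agent.FppfEpi
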