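import Mathlib

/-! Descending a group structure along an effective epimorphism. -/

set_option autoImplicit false
universe v u
open CategoryTheory MonoidalCategory CartesianMonoidalCategory MonObj

namespace Groth.Agent.FppfEpi

variable {C : Type u} [Category.{v} C] [CartesianMonoidalCategory C] {G Q : C} [hG : GrpObj G]
  (q : G ⟶ Q)

theorem lift_mul (m : Q ⊗ Q ⟶ Q) (hm : (q ⊗ₘ q) ≫ m = μ[G] ≫ q) {T : C} (a b : T ⟶ G) :
    lift (a ≫ q) (b ≫ q) ≫ m = (a * b) ≫ q := by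
  rw [← lift_map_assoc, hm, Hom.mul_def, Category.assoc]

/-- Group structure on `Q` from multiplication and inverse descended along `q`. -/
theorem exists_grpObj [Epi q] (hepi3 : Epi ((q ⊗ₘ q) ⊗ₘ q)) (m : Q ⊗ Q ⟶ Q)
    (hm : (q ⊗ₘ q) ≫ m = μ[G] ≫ q) (n : Q ⟶ Q) (hn : q ≫ n = ι[G] ≫ q) :
    ∃ s : GrpObj Q, @IsMonHom C _ _ G Q hG.toMonObj s.toMonObj q := by
  suffices h : ∃ s : GrpObj Q, s.one = η[G] ≫ q ∧ s.mul = m by
    obtain ⟨s, h1, h2⟩ := h
    exact ⟨s, @IsMonHom.mk C _ _ G Q hG.toMonObj s.toMonObj q h1.symm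
      ((congrArg ((q ⊗ₘ q) ≫ ·) h2).trans hm).symm⟩
  refine ⟨{ one := η[G] ≫ q
            mul := m
            inv := n
            one_mul := ?_
            mul_one := ?_
            mul_assoc := ?_
            left_inv := ?_
            right_inv := ?_ }, rfl, rfl⟩
  · rw [← cancel_epi (λ_ Q).inv, Iso.inv_hom_id, ← cancel_epi q, Category.comp_id]
    have : q ≫ (λ_ Q).inv ≫ ((η[G] ≫ q) ▷ Q) = lift ((1 : G ⟶ G) ≫ q) ((𝟙 G) ≫ q) := by
      apply CartesianMonoidalCategory.hom_ext <;> simp [Hom.one_def]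
    rw [← Category.assoc (λ_ Q).inv, ← Category.assoc, this, lift_mul q m hm, _root_.one_mul, Category.id_comp]
  · rw [← cancel_epi (ρ_ Q).inv, Iso.inv_hom_id, ← cancel_epi q, Category.comp_id]
    have : q ≫ (ρ_ Q).inv ≫ (Q ◁ (η[G] ≫ q)) = lift ((𝟙 G) ≫ q) ((1 : G ⟶ G) ≫ q) := by
      apply CartesianMonoidalCategory.hom_ext <;> simp [Hom.one_def]
    rw [← Category.assoc (ρ_ Q).inv, ← Category.assoc, this, lift_mul q m hm, _root_.mul_one, Category.id_comp]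
  · rw [← cancel_epi ((q ⊗ₘ q) ⊗ₘ q)]
    have e0 : (q ⊗ₘ q) ⊗ₘ q =
        lift (lift ((fst (G ⊗ G) G ≫ fst G G) ≫ q) ((fst (G ⊗ G) G ≫ snd G G) ≫ q))
          (snd (G ⊗ G) G ≫ q) := by
      apply CartesianMonoidalCategory.hom_ext
      · apply CartesianMonoidalCategory.hom_ext <;> simp
      · simp
    rw [e0, lift_whiskerRight_assoc, lift_lift_associator_hom_assoc, lift_whiskerLeft_assoc,
      lift_mul q m hm, lift_mul q m hm, lift_mul q m hm, lift_mul q m hm, _root_.mul_assoc]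
  · rw [← cancel_epi q, ← Category.assoc, comp_lift, hn, Category.comp_id]
    have e1 := lift_mul q m hm ((𝟙 G)⁻¹) (𝟙 G)
    rw [inv_mul_cancel, Category.id_comp, Hom.inv_def, Category.id_comp, Hom.one_def] at e1
    rw [e1, Category.assoc, ← Category.assoc q, comp_toUnit]
  · rw [← cancel_epi q, ← Category.assoc, comp_lift, hn, Category.comp_id]
    have e1 := lift_mul q m hm (𝟙 G) ((𝟙 G)⁻¹)
    rw [mul_inv_cancel, Category.id_comp, Hom.inv_def, Category.id_comp, Hom.one_def] at e1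
    rw [e1, Category.assoc, ← Category.assoc q, comp_toUnit]

theorem grpObj_unique [Epi (q ⊗ₘ q)] (s s' : GrpObj Q)
    (h : @IsMonHom C _ _ G Q hG.toMonObj s.toMonObj q)
    (h' : @IsMonHom C _ _ G Q hG.toMonObj s'.toMonObj q) : s = s' := by
  refine GrpObj.ext _ _ (MonObj.ext _ _ ?_)
  rw [← cancel_epi (q ⊗ₘ q)]
  exact (@IsMonHom.mul_hom C _ _ G Q hG.toMonObj s.toMonObj q h).symm.trans
    (@IsMonHom.mul_hom C _ _ G Q hG.toMonObj s'.toMonObj q h')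

/-- The two compatibilities from normality. -/
theorem mul_inv_compat {H : C} [GrpObj H] (i : H ⟶ G)
    (hn : ∀ (T : C) (g : T ⟶ G) (h : T ⟶ H), ∃ h' : T ⟶ H, g * (h ≫ i) * g⁻¹ = h' ≫ i)
    (hrel : ∀ (T : C) (a a' : T ⟶ G), a ≫ q = a' ≫ q → ∃ h : T ⟶ H, a' = a * (h ≫ i))
    (hinv : ∀ (T : C) (a : T ⟶ G) (h : T ⟶ H), (a * (h ≫ i)) ≫ q = a ≫ q) :
    (∀ (T : C) (a b a' b' : T ⟶ G), a ≫ q = a' ≫ q → b ≫ q = b' ≫ q →
      (a * b) ≫ q = (a' * b') ≫ q) ∧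
    ∀ (T : C) (a a' : T ⟶ G), a ≫ q = a' ≫ q → a⁻¹ ≫ q = a'⁻¹ ≫ q := by
  constructor
  · intro T a b a' b' h1 h2
    obtain ⟨h, rfl⟩ := hrel T a a' h1
    obtain ⟨k, rfl⟩ := hrel T b b' h2
    obtain ⟨h', e⟩ := hn T b⁻¹ h
    have : a * (h ≫ i) * (b * (k ≫ i)) = a * b * (h' ≫ i) * (k ≫ i) := by rw [← e]; group
    rw [this, hinv, hinv]
  · intro T a a' h1
    obtain ⟨h, rfl⟩ := hrel T a a' h1
    obtain ⟨h', e⟩ := hn T a h
    have : (a * (h ≫ i))⁻¹ * (h' ≫ i) = a⁻¹ := by rw [← e]; group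
    exact ((congrArg (· ≫ q) this).symm.trans (hinv T _ h'))

end Groth.Agent.FppfEpi
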